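import Cfsg.Agent.Lib.Spec.GK
import Cfsg.Agent.Lib.Frobenius.CN
import Cfsg.Agent.Lib.PLocal.FPF

/-!
# S3586 (no sporadic composition factor in a group isospectral to `Lₙ(q)` or `Uₙ(q)`): definitions (helper28)

`Q = q` (linear) or `Q = -q` (unitary), `p` the characteristic, `w Q d = |Q ^ d - 1|`.
* L-side: `Ev` (eigenvalues of one element; files `EvM`, `Orb`, `Ua`, `Ub`), existence (`Ex`), collected in `Ar`.
* G-side: `Su f S N`: `f : G →* X` onto with solvable kernel `K`, `X` almost simple with socle `S` of order `N ∈ ords`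
  (`Sec`, `Red`, `GA`, `GI`, order comparisons in `OM`, `OC`).
* Numbers: `Nm n Q N → (n, Q, N) ∈ resid` (`Nu*`).  The 26 residual triples are killed in `K*`, `F5*`, `F9`, `U62`.
-/

set_option autoImplicit false

namespace Cfsg.Lib.SPL

open Subgroup Cfsg.Lib.BG Cfsg.Lib.Spec

/-- the orders of M11 M12 M22 M23 M24 J1 J2 J3 J4 Co1 Co2 Co3 Fi22 Fi23 Fi24' HS McL He Ru Suz ON HN Ly Th B M and the Tits group -/
def ords : List ℕ := [7920, 95040, 443520, 10200960, 244823040, 175560, 604800, 50232960, 86775571046077562880,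
  4157776806543360000, 42305421312000, 495766656000, 64561751654400, 4089470473293004800, 1255205709190661721292800,
  44352000, 898128000, 4030387200, 145926144000, 448345497600, 460815505920, 273030912000000, 51765179004000000,
  90745943887872000, 4154781481226426191177580544000000, 808017424794512875886459904961710757005754368000000000, 17971200]

/-- the least common multiple of `ords` -/
def MM : ℕ := 2 ^ 46 * 3 ^ 20 * 5 ^ 9 * 7 ^ 6 * 11 ^ 3 * 13 ^ 3 * 17 * 19 * 23 * 29 * 31 * 37 * 41 * 43 * 47 * 59 * 67 * 71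

theorem dvd_MM {N : ℕ} (h : N ∈ ords) : N ∣ MM := (by decide +kernel : ∀ N ∈ ords, N ∣ MM) N h

theorem eight_dvd {N : ℕ} (h : N ∈ ords) : 8 ∣ N := (by decide +kernel : ∀ N ∈ ords, 8 ∣ N) N h

theorem ords_pos {N : ℕ} (h : N ∈ ords) : 0 < N := (by decide +kernel : ∀ N ∈ ords, 0 < N) N h

/-- simple, of the order of a sporadic group or the Tits group -/
def Bad (S : Type*) [Group S] : Prop := IsSimpleGroup S ∧ Nat.card S ∈ ords

/-- `Y` has a simple section of order `N` -/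
def Sec (Y : Type*) [Group Y] (N : ℕ) : Prop :=
  ∃ (H : Subgroup Y) (M : Subgroup H) (_ : M.Normal), IsSimpleGroup (H ⧸ M) ∧ Nat.card (H ⧸ M) = N

/-- `|Q ^ d - 1|` -/
def w (Q : ℤ) (d : ℕ) : ℕ := (Q ^ d - 1).natAbs

/-- the order of the cyclic maximal torus of rank `n` in the simple group -/
def tn (n : ℕ) (Q : ℤ) : ℕ := w Q n / (w Q 1 * n.gcd (w Q 1))

/-- the order of the cyclic maximal torus of type `(n - 1, 1)` in the simple group -/
def tm (n : ℕ) (Q : ℤ) : ℕ := w Q (n - 1) / n.gcd (w Q 1)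

/-- `m` is a primitive divisor of `Q ^ i - 1` -/
def Pr (Q : ℤ) (i m : ℕ) : Prop := m ∣ w Q i ∧ ∀ d, 0 < d → d < i → m.Coprime (w Q d)

/-- the eigenvalues `R` of a matrix whose image in the projective group has order `o` -/
structure Ev (n : ℕ) (Q : ℤ) (p o : ℕ) {A : Type*} [CommGroup A] [DecidableEq A] (R : Multiset A) : Prop where
  hp : p.Prime
  hQ : (p : ℤ) ∣ Q
  two : 2 ≤ Q.natAbs
  card : R.card = n
  frob : R.map (· ^ Q) = R
  inj : Function.Injective fun a : A => a ^ Q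
  prod : R.prod = 1
  ord : ∀ m c : ℕ, (∀ a ∈ R, ∀ b ∈ R, a ^ m = b ^ m) → (∀ a ∈ R, R.count a ≤ p ^ c) → o ∣ m * p ^ c

/-- the orbit of `a` under `x ↦ x ^ Q` -/
def orb {A : Type*} [CommGroup A] (Q : ℤ) (a : A) (d : ℕ) : Multiset A := (Multiset.range d).map fun i => a ^ Q ^ i

/-- `d` is the length of the orbit of `a` -/
structure Per {A : Type*} [CommGroup A] (Q : ℤ) (a : A) (d : ℕ) : Prop where
  pos : 0 < d
  eq : a ^ Q ^ d = a
  min : ∀ e, 0 < e → e < d → a ^ Q ^ e ≠ a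

/-- what is used of the set `ω` of element orders of `Lₙ(Q)` -/
structure Ar (n : ℕ) (Q : ℤ) (p : ℕ) (ω : Set ℕ) : Prop where
  hn : 4 ≤ n
  hp : p.Prime
  hQ : ∃ k, 0 < k ∧ Q.natAbs = p ^ k
  u1 : ∀ r ∈ ω, IsPrimePow r → r.Coprime p → ∃ d ≤ n, 0 < d ∧ r ∣ w Q d
  u2 : ∀ r s, r * s ∈ ω → IsPrimePow r → IsPrimePow s → r.Coprime p → s.Coprime p →
    ∃ d ≤ n, ∃ e ≤ n, 0 < d ∧ 0 < e ∧ r ∣ w Q d ∧ s ∣ w Q e ∧ (d = e ∨ d + e ≤ n)
  u3 : ∀ k, p ^ (k + 1) ∈ ω → p ^ k < n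
  u3' : ∀ k r, p ^ (k + 1) * r ∈ ω → IsPrimePow r → r.Coprime p → ∃ d ≤ n, 0 < d ∧ r ∣ w Q d ∧ d + p ^ k + 1 ≤ n
  u4 : ∀ o ∈ ω, ∀ r, r ∣ o → IsPrimePow r → r.Coprime p → (∀ d ≤ n, 0 < d → r ∣ w Q d → d = n) → o ∣ tn n Q
  u5 : ∀ o ∈ ω, ∀ r, r ∣ o → IsPrimePow r → r.Coprime p → (∀ d ≤ n, 0 < d → r ∣ w Q d → d + 1 = n) → o ∣ tm n Q
  u6 : n = 6 → Q = -2 → 30 ∉ ω ∧ 36 ∉ ω ∧ 24 ∉ ω
  ex : ∀ i m, 0 < i → i ≤ n → m ∣ w Q i → m.Coprime (w Q 1) → m ∈ ω
  exp : p ∈ ω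
  ex62 : n = 6 → Q = -2 → 8 ∈ ω ∧ 9 ∈ ω ∧ 15 ∈ ω

/-- `X = G ⧸ ker f` is almost simple with socle `S` of order `N`, the kernel is solvable -/
structure Su {G X : Type*} [Group G] [Group X] (f : G →* X) (S : Subgroup X) (N : ℕ) : Prop where
  surj : Function.Surjective f
  sol : Group.IsSolvable f.ker
  nml : S.Normal
  simple : IsSimpleGroup S
  cent : 𝐂(S) = ⊥
  card : Nat.card S = N
  mem : N ∈ ords

theorem Su.bad {G X : Type*} [Group G] [Group X] {f : G →* X} {S : Subgroup X} {N : ℕ} (h : Su f S N) : Bad S :=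
  ⟨h.simple, h.card ▸ h.mem⟩

/-- the arithmetic conditions on `(n, Q, N)` -/
structure Nm (n : ℕ) (Q : ℤ) (N : ℕ) : Prop where
  hn : 4 ≤ n
  pp : IsPrimePow Q.natAbs
  mem : N ∈ ords
  h1 : Odd (tn n Q) → ∀ m, Pr Q n m → m ∣ N
  h2 : Odd (tm n Q) → ∀ m, Pr Q (n - 1) m → m ∣ N
  h3 : ∀ s, s.Prime → s ∣ N → s ∣ Q.natAbs ∨ ∃ d ≤ n, 0 < d ∧ s ∣ w Q d

/-- the solutions of `Nm` other than `U₅(2)` -/
def resid : List (ℕ × ℤ × ℕ) := [(4, -17, 145926144000), (4, -7, 604800), (4, -5, 604800), (4, -3, 604800), (4, 2, 604800),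
  (4, 3, 17971200), (4, 4, 4030387200), (4, 11, 273030912000000), (4, 11, 175560), (6, -11, 273030912000000),
  (6, -11, 175560), (6, -7, 273030912000000), (6, -7, 175560), (6, -3, 17971200), (6, -2, 44352000), (6, -2, 443520),
  (6, -2, 898128000), (6, 5, 64561751654400), (6, 5, 44352000), (6, 5, 604800), (6, 5, 443520), (6, 5, 898128000),
  (6, 5, 448345497600), (6, 17, 145926144000), (9, -2, 50232960), (10, -2, 460815505920)]

/-- the element orders of `U₆(2)` -/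
def om : List ℕ := [1, 2, 3, 4, 5, 6, 7, 8, 9, 10, 11, 12, 15, 18]

/-- all element orders of `G` are element orders of `U₆(2)` -/
def Sp (G : Type*) [Group G] : Prop := ∀ g : G, orderOf g ∈ om

theorem om_le {n : ℕ} (h : n ∈ om) : n ≤ 18 := by revert n; decide

theorem om_dvd {m n : ℕ} (h : n ∈ om) (d : m ∣ n) : m ∈ om :=
  (by decide : ∀ n ∈ om, ∀ m ≤ 18, m ∣ n → m ∈ om) n h m
    ((Nat.le_of_dvd ((by decide : ∀ n ∈ om, 0 < n) n h) d).trans (om_le h)) d

namespace Sp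

variable {G : Type*} [Group G] {H : Type*} [Group H] {x y : G} {a b n p : ℕ} (h : Sp G)
include h

theorem inj (f : H →* G) (hf : Function.Injective f) : Sp H := fun g => orderOf_injective f hf g ▸ h (f g)

theorem sub (K : Subgroup G) : Sp K := h.inj K.subtype Subtype.val_injective

theorem equiv (e : H ≃* G) : Sp H := h.inj e.toMonoidHom e.injective

theorem surj (f : G →* H) (hf : Function.Surjective f) : Sp H := fun g => by
  obtain ⟨x, rfl⟩ := hf g
  exact om_dvd (h x) (orderOf_map_dvd f x)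

theorem dvd (d : n ∣ orderOf x) : n ∈ om := om_dvd (h x) d

/-- commuting elements: use as `h.comm c (a := 2) (b := 7) d1 d2 (by decide) (by decide) : False` -/
theorem comm (c : x * y = y * x) (d1 : a ∣ orderOf x) (d2 : b ∣ orderOf y) (k : a.Coprime b) (hn : a * b ∉ om) : False := by
  have x0 := ((by decide : ∀ n ∈ om, 0 < n) _ (h x)).ne'
  have y0 := ((by decide : ∀ n ∈ om, 0 < n) _ (h y)).ne'
  have e := Commute.orderOf_mul_eq_mul_orderOf_of_coprime
    (Commute.pow_pow (a := x) (b := y) c (orderOf x / a) (orderOf y / b))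
  rw [orderOf_pow_orderOf_div x0 d1, orderOf_pow_orderOf_div y0 d2] at e
  exact hn (e k ▸ h _)

theorem prime [Finite G] (hp : p.Prime) (d : p ∣ Nat.card G) : p = 2 ∨ p = 3 ∨ p = 5 ∨ p = 7 ∨ p = 11 := by
  have := Fact.mk hp
  obtain ⟨g, rfl⟩ := exists_prime_orderOf_dvd_card' p d
  exact (by decide : ∀ n ∈ om, n.Prime → n = 2 ∨ n = 3 ∨ n = 5 ∨ n = 7 ∨ n = 11) _ (h g) hp

theorem not_mem (hn : n ∉ om) : n ∉ sp G := fun ⟨g, e⟩ => hn (e ▸ h g)

end Sp

end Cfsg.Lib.SPL
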