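import Cfsg.Agent.Lib.SPL.Def
import Cfsg.Agent.Lib.Small.SylNum

/-!
# S3586: Sylow counting for the orders of `J₂` and `He`
-/

set_option autoImplicit false

namespace Cfsg.Lib.SPL

open Subgroup Cfsg.Lib.BG Cfsg.Lib.Spec Cfsg.Lib.Transfer

variable {S : Type*} [Group S] [Finite S] {P U : Subgroup S} {r s k : ℕ} {x : S}

/-- If a `r`-element `x ≠ 1` has a centralizer of order divisible by the prime `s ≠ r` then `r * s ∈ sp S`
(`mul_mem_sp_of_commute'`). -/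
theorem ndvd_cent (hr : r.Prime) (hs : s.Prime) (ne : r ≠ s) (hno : r * s ∉ sp S) (hP : IsPGroup r P) (hx : x ∈ P) (x1 : x ≠ 1) :
    ¬ s ∣ Nat.card 𝐂[x] := by
  intro d
  have := Fact.mk hr
  obtain ⟨y, hy, o⟩ := Core.exists_mem_orderOf_eq_prime hs d
  obtain ⟨k, hk⟩ := IsPGroup.iff_orderOf.1 hP ⟨x, hx⟩
  rw [orderOf_mk] at hk
  exact hno (mul_mem_sp_of_commute' (x := x) (y := y) (mem_centralizer_singleton_iff.1 hy).symm hr hs ne
    (hk ▸ dvd_pow_self r fun e => x1 (orderOf_eq_one_iff.1 (by rw [hk, e, pow_zero]))) (o ▸ dvd_rfl))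

/-- `U` a Sylow `s`-subgroup of `𝐍(P)` acts semiregularly on `P` (`fpf_of_not_mem_sp`), so `|U| ∣ |P| - 1`. -/
theorem pow_dvd_norm (hr : r.Prime) (hs : s.Prime) (ne : r ≠ s) (hno : r * s ∉ sp S) (hP : IsPGroup r P)
    (d : s ^ k ∣ Nat.card 𝐍(P)) : s ^ k ∣ Nat.card P - 1 := by
  have := Fact.mk hr
  have := Fact.mk hs
  obtain ⟨R, hR⟩ := Syl.exists (p := s) 𝐍(P)
  rw [← BG.card_mul_relIndex hR.le] at d
  refine ((Nat.Coprime.pow_left k (hs.coprime_iff_not_dvd.2 hR.not_dvd')).dvd_of_dvd_mul_right d).trans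
    (Frobenius.card_dvd_card_sub_one_of_fpf hR.le (fpf_of_not_mem_sp fun u v hu hv h4 h5 => ?_))
  obtain rfl := pgroup_eq_of_dvd hP hu h4
  obtain rfl := pgroup_eq_of_dvd hR.pgroup hv h5
  exact ⟨ne, hno⟩

/-- `P` acts by conjugation on the conjugates of `P` (or on `S ⧸ 𝐍(P)`, or on `Sylow r S`).  The stabilizer in `P` of `P' = g ⋆ P` is
`P ⊓ P'` (an `r`-element normalizing the Sylow subgroup `P'` lies in it), of order dividing `|P| / r ^ k` if `P' ≠ P`; so all orbits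
except `{P}` have length divisible by `r ^ k`. -/
theorem index_mod (hr : r.Prime) (hP : Syl r P ⊤) (h : ∀ g : S, g ∉ 𝐍(P) → Nat.card ↥(P ⊓ g ⋆ P) * r ^ k ∣ Nat.card P) :
    𝐍(P).index ≡ 1 [MOD r ^ k] := by
  have := Fact.mk hr
  obtain ⟨T, rfl⟩ := Syl.top_iff_sylow.1 hP
  rw [show 𝐍((T : Subgroup S)).index = _ from (Sylow.card_eq_index_normalizer T).symm]
  by_contra hn
  obtain ⟨R, hR, hd⟩ := Small.exists_sylow_not_dvd T hn
  obtain ⟨g, rfl⟩ := MulAction.exists_smul_eq S T R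
  have e := h g fun hg => hR (Sylow.ext (by rw [coe_smul_sylow, BG.conj_eq_of_norm hg]))
  rw [← BG.card_mul_relIndex (inf_le_left : (T : Subgroup S) ⊓ g ⋆ T ≤ T), inf_relIndex_left] at e
  exact hd (Nat.dvd_of_mul_dvd_mul_left Nat.card_pos e)

theorem syl_mod (hr : r.Prime) (h : Syl r P U) : 𝐍(P).relIndex U % r = 1 := by
  have := Fact.mk hr
  rw [← Small.card_sylowIn h.le h.pgroup h.not_dvd', card_sylow_modEq_one r U, Nat.mod_eq_of_lt hr.one_lt]

theorem syl_card [hr : Fact r.Prime] {m : ℕ} (h : Syl r P U) (c : Nat.card U = r ^ k * m) (hm : ¬ r ∣ m) :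
    Nat.card P = r ^ k := by
  obtain ⟨j, hj⟩ := IsPGroup.iff_card.1 h.pgroup
  have e := BG.card_mul_relIndex h.le
  rw [c, hj] at e
  exact hj.trans (Nat.dvd_antisymm (((hr.out.coprime_iff_not_dvd.2 hm).pow_left j).dvd_of_dvd_mul_right ⟨_, e.symm⟩)
    (((hr.out.coprime_iff_not_dvd.2 h.not_dvd').pow_left k).dvd_of_dvd_mul_right ⟨_, e⟩))

/-- `1 ≠ x ∈ P ⊓ g ⋆ P`: both are Sylow subgroups of `C = 𝐂[x]`.  Their number `(𝐍(P)).relIndex C` is `≡ 1 mod r` and divides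
`|C| / |P|`; by `h` it is 1, so `g ⋆ P = c ⋆ P = P`. -/
theorem ti_of_ab (hr : r.Prime) (hP : Syl r P ⊤) (ab : P ≤ 𝐂(P))
    (h : ∀ x ∈ P, x ≠ 1 → ∀ n, n * Nat.card P ∣ Nat.card 𝐂[x] → n % r = 1 → n = 1) {g : S} (hg : g ∉ 𝐍(P)) : P ⊓ g ⋆ P = ⊥ := by
  have := Fact.mk hr
  by_contra n
  obtain ⟨⟨x, hx⟩, x1⟩ := ne_bot_iff_exists_ne_one.1 n
  have l : P ≤ 𝐂[x] := ab.trans (cent_le_cent1 hx.1)
  have l' : g ⋆ P ≤ 𝐂[x] := (abelian_cent ((abelian_conj g).2 (abelian_iff.2 ab))).trans (cent_le_cent1 hx.2)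
  have s : Syl r P 𝐂[x] := hP.of_le l le_top
  have e := h x hx.1 (fun e => x1 (Subtype.ext e)) (𝐍(P).relIndex 𝐂[x]) (by
    rw [← BG.card_mul_relIndex (inf_le_left : 𝐂[x] ⊓ 𝐍(P) ≤ 𝐂[x]), inf_relIndex_left, mul_comm]
    exact mul_dvd_mul_right (card_dvd_of_le s.to_norm.le) _) (syl_mod hr s)
  obtain ⟨c, hc, e'⟩ := s.exists_conj_eq ((hP.conj_top g).of_le l' le_top)
  exact hg (norm_of_conj_eq (e'.trans (BG.conj_eq_of_norm (relIndex_eq_one.1 e hc))))

/-- `P` Sylow 5, order 25, abelian.  For `1 ≠ x ∈ P`, `|𝐂[x]| ∣ 25 * 27` (`ndvd_cent`), so `ti_of_ab` applies (divisors of 27 that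
are `≡ 1 mod 5`) and `n = 𝐍(P).index ≡ 1 mod 25`.  `m = |𝐍(P)| / 25`, `n * m = 24192`, `16 ∤ m`, `7 ∤ m` (`pow_dvd_norm`, 24),
so `m ∣ 216` and `m ≡ 17 mod 25`: impossible. -/
theorem j2_false (c : Nat.card S = 604800) (h1 : 5 * 2 ∉ sp S) (h2 : 5 * 7 ∉ sp S) : False := by
  have := Fact.mk Nat.prime_five
  obtain ⟨P, hP⟩ := Syl.exists (p := 5) (⊤ : Subgroup S)
  have cP : Nat.card P = 5 ^ 2 := syl_card hP (m := 24192) (by rw [card_top, c]; norm_num) (by norm_num)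
  have ab : P ≤ 𝐂(P) := abelian_iff.1 ⟨⟨(IsPGroup.commGroupOfCardEqPrimeSq cP).mul_comm⟩⟩
  have i := index_mod (k := 2) Nat.prime_five hP fun g hg => by
    rw [ti_of_ab Nat.prime_five hP ab (fun x hx x1 n a b => ?_) hg, card_bot, one_mul, cP]
    have d := (a.trans (card_subgroup_dvd_card _))
    rw [c, cP, show 604800 = 27 * (2 ^ 7 * 7) * 5 ^ 2 by norm_num] at d
    have d1 := (dvd_mul_right _ _).trans a
    have : n ∣ 27 := Nat.Coprime.dvd_of_dvd_mul_right (Nat.Coprime.mul_right (Nat.Coprime.pow_right _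
      (Nat.prime_two.coprime_iff_not_dvd.2 fun e =>
        ndvd_cent Nat.prime_five Nat.prime_two (by norm_num) h1 hP.pgroup hx x1 (e.trans d1)).symm)
      (Nat.prime_seven.coprime_iff_not_dvd.2 fun e =>
        ndvd_cent Nat.prime_five Nat.prime_seven (by norm_num) h2 hP.pgroup hx x1 (e.trans d1)).symm)
      (Nat.dvd_of_mul_dvd_mul_right (by norm_num) d)
    exact (by decide : ∀ n ≤ 27, n ∣ 27 → n % 5 = 1 → n = 1) n (Nat.le_of_dvd (by norm_num) this) this b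
  obtain ⟨m, hm⟩ := card_dvd_of_le (le_norm P)
  have e := 𝐍(P).card_mul_index
  have a := pow_dvd_norm (k := 4) Nat.prime_five Nat.prime_two (by norm_num) h1 hP.pgroup
  have b := pow_dvd_norm (k := 1) Nat.prime_five Nat.prime_seven (by norm_num) h2 hP.pgroup
  rw [hm, cP] at a b e
  generalize 𝐍(P).index = n at e i
  have e' : m * n = 24192 := by rw [c, mul_assoc] at e; omega
  exact (by decide +kernel : ∀ m ∈ Nat.divisors 24192, ¬ 16 ∣ m → ¬ 7 ∣ m → ¬ 24192 / m ≡ 1 [MOD 5 ^ 2]) m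
    (Nat.mem_divisors.2 ⟨⟨n, e'.symm⟩, by norm_num⟩) (by omega) (by omega)
    (by rwa [← e', Nat.mul_div_cancel_left _ (Nat.pos_of_ne_zero (by rintro rfl; omega))])

/-- `P` Sylow 7, order 343, `n = 𝐍(P).index ≡ 1 mod 7`, `m = |𝐍(P)| / 343`, `n * m = 11750400`.  `4, 5, 17 ∤ m` (`pow_dvd_norm`, 342),
so `m ∣ 54`, `m ≡ 4 mod 7`, `m = 18`.  An involution of `𝐍(P)` inverts `P` (`Frobenius.inv_eq_of_semiReg`), so `P` is abelian.
`|𝐂[x]| ∣ 343 * 27`, `ti_of_ab`, `index_mod`: `n = 652800 ≡ 1 mod 343`, false. -/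
theorem he_false (c : Nat.card S = 4030387200) (h1 : 7 * 2 ∉ sp S) (h2 : 7 * 5 ∉ sp S) (h3 : 7 * 17 ∉ sp S) : False := by
  have := Fact.mk Nat.prime_seven
  have p17 : Nat.Prime 17 := by norm_num
  obtain ⟨P, hP⟩ := Syl.exists (p := 7) (⊤ : Subgroup S)
  have cP : Nat.card P = 7 ^ 3 := syl_card hP (m := 11750400) (by rw [card_top, c]; norm_num) (by norm_num)
  obtain ⟨m, hm⟩ := card_dvd_of_le (le_norm P)
  have e := 𝐍(P).card_mul_index
  have a := pow_dvd_norm (k := 2) Nat.prime_seven Nat.prime_two (by norm_num) h1 hP.pgroup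
  have b := pow_dvd_norm (k := 1) Nat.prime_seven Nat.prime_five (by norm_num) h2 hP.pgroup
  have b' := pow_dvd_norm (k := 1) Nat.prime_seven p17 (by norm_num) h3 hP.pgroup
  have i := syl_mod Nat.prime_seven hP
  rw [relIndex_top_right] at i
  rw [hm, cP] at a b b' e
  have e' : m * 𝐍(P).index = 11750400 := by rw [c, mul_assoc] at e; omega
  have d : m ∣ 54 := by
    have d : m ∣ 27 * 2 ^ 10 * (5 ^ 2 * 17) := ⟨_, e'.symm⟩
    obtain ⟨u, v, hu, hv, rfl⟩ := exists_dvd_and_dvd_of_dvd_mul (Nat.Coprime.dvd_of_dvd_mul_right (Nat.Coprime.mul_right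
      (Nat.Coprime.pow_right _ (Nat.prime_five.coprime_iff_not_dvd.2 (by omega)).symm)
      (p17.coprime_iff_not_dvd.2 (by omega)).symm) d)
    obtain ⟨j, -, rfl⟩ := (Nat.dvd_prime_pow Nat.prime_two).1 hv
    refine mul_dvd_mul hu (pow_dvd_pow 2 (show j ≤ 1 from not_lt.1 fun l => ?_))
    exact absurd (a (((pow_dvd_pow 2 l).mul_left u).mul_left _)) (by norm_num)
  obtain rfl : m = 18 := by
    have := Nat.le_of_dvd (by norm_num) d
    interval_cases m <;> omega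
  obtain ⟨t, ht, o⟩ := Core.exists_mem_orderOf_eq_prime (H := 𝐍(P)) Nat.prime_two (by rw [hm]; omega)
  have v := fun x => Frobenius.inv_eq_of_semiReg (zpowers_le.2 ht) (fpf_of_not_mem_sp fun u v hu hv h4 h5 => by
    obtain rfl := pgroup_eq_of_dvd hP.pgroup hu h4
    rw [Nat.card_zpowers, o] at h5
    obtain rfl := (Nat.prime_dvd_prime_iff_eq hv Nat.prime_two).1 h5
    exact ⟨by norm_num, h1⟩) (mem_zpowers t) o (x := x)
  have ab : P ≤ 𝐂(P) := le_cent_iff.2 fun x hx y hy => inv_injective (by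
    rw [← v _ (mul_mem hx hy), mul_inv_rev, ← v _ hx, ← v _ hy]; group)
  have i := index_mod (k := 3) Nat.prime_seven hP fun g hg => by
    rw [ti_of_ab Nat.prime_seven hP ab (fun x hx x1 n a b => ?_) hg, card_bot, one_mul, cP]
    have d := (a.trans (card_subgroup_dvd_card _))
    rw [c, cP, show 4030387200 = 27 * (2 ^ 10 * 5 ^ 2 * 17) * 7 ^ 3 by norm_num] at d
    have d1 := (dvd_mul_right _ _).trans a
    have k := fun (s : ℕ) (hs : s.Prime) ne h => (hs.coprime_iff_not_dvd.2 fun e =>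
        ndvd_cent Nat.prime_seven hs ne h hP.pgroup hx x1 (e.trans d1)).symm
    have : n ∣ 27 := Nat.Coprime.dvd_of_dvd_mul_right (Nat.Coprime.mul_right (Nat.Coprime.mul_right
      ((k 2 Nat.prime_two (by norm_num) h1).pow_right _) ((k 5 Nat.prime_five (by norm_num) h2).pow_right _))
      (k 17 p17 (by norm_num) h3)) (Nat.dvd_of_mul_dvd_mul_right (by norm_num) d)
    exact (by decide : ∀ n ≤ 27, n ∣ 27 → n % 7 = 1 → n = 1) n (Nat.le_of_dvd (by norm_num) this) this b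
  rw [show 𝐍(P).index = 652800 by omega] at i
  exact absurd i (by decide)

end Cfsg.Lib.SPL
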