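import Cfsg.Agent.Lib.SPL.Nu0

/-!
# S3586, numbers: `i ≥ 5`, `i ≠ 6`
-/

set_option autoImplicit false

namespace Cfsg.Lib.SPL

variable {i j m q : ℕ} {Q : ℤ}

/-- the prime factorization of `MM` -/
def pl : List (ℕ × ℕ) := [(2, 46), (3, 20), (5, 9), (7, 6), (11, 3), (13, 3), (17, 1), (19, 1), (23, 1), (29, 1), (31, 1), (37, 1),
  (41, 1), (43, 1), (47, 1), (59, 1), (67, 1), (71, 1)]

/-- the part of `MM` made of the primes `≡ 1 mod j` -/
def BB (j : ℕ) : ℕ := ((pl.filter fun x => x.1 % j = 1).map fun x => x.1 ^ x.2).prod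

/-- the bounds for `q` -/
def qb : List (ℕ × ℕ) := [(5, 221), (7, 11), (8, 12), (9, 5), (10, 263), (11, 3), (12, 44), (14, 13), (15, 2), (16, 2), (18, 6),
  (20, 2), (22, 3), (30, 2), (36, 2), (42, 2)]

theorem nub_list (l : List (ℕ × ℕ)) (hl : ∀ x ∈ l, x.1.Prime) (m : ℕ) (d : m ∣ (l.map fun x => x.1 ^ x.2).prod)
    (h : ∀ r : ℕ, r.Prime → r ∣ m → r % j = 1) : m ∣ ((l.filter fun x => x.1 % j = 1).map fun x => x.1 ^ x.2).prod := by
  induction l generalizing m with
  | nil => simpa using d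
  | cons x l ih =>
    rw [List.map_cons, List.prod_cons] at d
    obtain ⟨a, b, ha, hb, rfl⟩ := exists_dvd_and_dvd_of_dvd_mul d
    have k := ih (fun y hy => hl y (List.mem_cons_of_mem _ hy)) b hb fun r hr e => h r hr (e.mul_left a)
    by_cases e : x.1 % j = 1
    · rw [List.filter_cons_of_pos (by simpa using e), List.map_cons, List.prod_cons]
      exact mul_dvd_mul ha k
    · rw [List.filter_cons_of_neg (by simpa using e)]
      obtain rfl : a = 1 := by
        by_contra n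
        obtain ⟨r, hr, dr⟩ := Nat.exists_prime_and_dvd n
        have := (Nat.prime_dvd_prime_iff_eq hr (hl x List.mem_cons_self)).1 (hr.dvd_of_dvd_pow (dr.trans ha))
        exact e (this ▸ h r hr (dr.mul_right b))
      simpa using k

/-- `MM` is the product over `pl`; `m` is prime to the factors that are filtered out (general induction on the list). -/
theorem dvd_BB (d : m ∣ MM) (h : ∀ r : ℕ, r.Prime → r ∣ m → r % j = 1) : m ∣ BB j :=
  nub_list pl (by decide +kernel) m ((by decide +kernel : MM = (pl.map fun x => x.1 ^ x.2).prod) ▸ d) h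

theorem nub_tab : ∀ j ∈ List.range 71, 5 ≤ j → j ≠ 6 →
    4 * (j * BB j) < 2 ^ j.totient ∨ ∃ x ∈ qb, x.1 = j ∧ 4 * (j * BB j) < (x.2 + 1) ^ j.totient := by
  decide +kernel

/-- `j ≥ 71`: `BB j = 1` and `4 * j < 2 ^ φ j` (`GLC.tot_large`).  `j ≤ 70`: `decide +kernel` for the table: if `j` is not in `qb`
then `4 * (j * BB j) < 2 ^ φ j`, else `4 * (j * BB j) < (b + 1) ^ φ j`; monotonicity in `q`. -/
theorem mem_qb (hj : 5 ≤ j) (h6 : j ≠ 6) (hq : 2 ≤ q) (h : q ^ j.totient ≤ 4 * (j * BB j)) : ∃ b, (j, b) ∈ qb ∧ q ≤ b := by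
  have h2 : 2 ^ j.totient ≤ q ^ j.totient := Nat.pow_le_pow_left hq _
  rcases lt_or_ge j 71 with l | l
  · rcases nub_tab j (List.mem_range.2 l) hj h6 with k | ⟨⟨a, b⟩, hx, rfl, k⟩
    · omega
    · refine ⟨b, hx, ?_⟩
      by_contra n
      have := Nat.pow_le_pow_left (show b + 1 ≤ q by omega) (Nat.totient a)
      simp only at k h
      omega
  · have e : BB j = 1 := by
      rw [BB, List.filter_eq_nil_iff.2, List.map_nil, List.prod_nil]
      intro x hx
      obtain ⟨a, b⟩ := (by decide : ∀ x ∈ pl, 2 ≤ x.1 ∧ x.1 ≤ 71) x hx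
      rcases (b.trans l).lt_or_eq with c | c
      · simp [Nat.mod_eq_of_lt c]; omega
      · simp [c]
    have := GLC.tot_large (show 43 ≤ j by omega)
    rw [e] at h
    nlinarith

/-- `GLC.exists_prim_divisor`; primes of order `j` are `≡ 1 mod j` (`ZMod.orderOf_dvd_card_sub_one`), `dvd_BB`, `mem_qb`. -/
theorem bound (hj : 5 ≤ j) (h6 : j ≠ 6) (hq : 2 ≤ q)
    (h : ∀ m, m ∣ q ^ j - 1 → (∀ r : ℕ, r.Prime → r ∣ m → orderOf (q : ZMod r) = j) → m ∣ MM) : ∃ b, (j, b) ∈ qb ∧ q ≤ b := by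
  obtain ⟨m, d, hm, l⟩ := GLC.exists_prim_divisor (a := q) (n := j) (by omega) (by omega)
  have k : m ∣ BB j := dvd_BB (h m d hm) fun r hr e => by
    have := Fact.mk hr
    have o := hm r hr e
    have z : (q : ZMod r) ≠ 0 := fun z => by
      rw [z, orderOf_zero] at o
      omega
    have := ZMod.orderOf_dvd_card_sub_one z
    rw [o] at this
    obtain ⟨c, hc⟩ := this
    have r2 := hr.two_le
    rw [show r = 1 + j * c by omega, Nat.add_mul_mod_self_left, Nat.mod_eq_of_lt (by omega)]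
  have p : 0 < BB j := List.prod_pos fun a ha => by
    obtain ⟨x, hx, rfl⟩ := List.mem_map.1 ha
    exact pow_pos ((by decide : ∀ x ∈ pl, 0 < x.1) x (List.mem_of_mem_filter hx)) _
  exact mem_qb hj h6 hq (l.trans (Nat.mul_le_mul_left _ (Nat.mul_le_mul_left _ (Nat.le_of_dvd p k))))

/-- the check for one pair -/
def nubChk (i : ℕ) (Q : ℤ) : Bool :=
  decide (kp Q i ∣ w Q i) && (List.range i).all (fun d => d == 0 || (kp Q i).gcd (w Q d) == 1) &&
    (MM % kp Q i != 0 || decide ((i, Q) ∈ big))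

theorem nub_chk (c : nubChk i Q = true) (h : ∀ m, Pr Q i m → m ∣ MM) : (i, Q) ∈ big := by
  simp only [nubChk, Bool.and_eq_true, decide_eq_true_eq, List.all_eq_true, List.mem_range, Bool.or_eq_true, beq_iff_eq,
    bne_iff_ne] at c
  obtain ⟨⟨a, b⟩, c⟩ := c
  exact c.resolve_left fun n => n (Nat.mod_eq_zero_of_dvd (h _ ⟨a, fun d d0 dl => (b d dl).resolve_left d0.ne'⟩))

theorem nub_all : (qb.all fun x => (List.range (x.2 + 1)).all fun q =>
    decide (q < 2) || (nubChk x.1 q && nubChk (nu x.1) (-q))) = true := by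
  decide +kernel

theorem nub_both {b : ℕ} (hb : (j, b) ∈ qb) (two : 2 ≤ q) (l : q ≤ b) : nubChk j q = true ∧ nubChk (nu j) (-q) = true := by
  have := List.all_eq_true.1 (List.all_eq_true.1 nub_all _ hb) q (List.mem_range.2 (Nat.lt_succ_of_le l))
  simpa [not_lt.2 two] using this

/-- `Q = q` (`j = i`, `pr_pos`) or `Q = -q` (`j = nu i ≥ 5`, `≠ 6`, `pr_neg`; `i` is determined by `j`: `i = nu j`), `bound`.  Then
`decide +kernel` over `(j, b) ∈ qb`, `2 ≤ q ≤ b` (600 pairs, both signs): `Pr Q i (kp Q i)` and `kp Q i ∣ MM → (i, Q) ∈ big`. -/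
theorem mem_big (hi : 5 ≤ i) (h6 : i ≠ 6) (two : 2 ≤ Q.natAbs) (h : ∀ m, Pr Q i m → m ∣ MM) : (i, Q) ∈ big := by
  obtain ⟨q, rfl | rfl⟩ := Int.eq_nat_or_neg Q
  · rw [Int.natAbs_natCast] at two
    obtain ⟨b, hb, l⟩ := bound hi h6 two fun m d k => h m (pr_pos two d k)
    exact nub_chk (nub_both hb two l).1 h
  · rw [Int.natAbs_neg, Int.natAbs_natCast] at two
    obtain ⟨b, hb, l⟩ := bound (j := nu i) (by unfold nu; split_ifs <;> omega) (by unfold nu; split_ifs <;> omega) two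
      fun m d k => h m (pr_neg two (by omega) d k)
    have e : nu (nu i) = i := by unfold nu; split_ifs <;> omega
    exact nub_chk (e ▸ (nub_both hb two l).2) h

end Cfsg.Lib.SPL
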