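import Cfsg.Agent.Lib.SPL.NuA
import Cfsg.Agent.Lib.SPL.NuB

/-!
# S3586, numbers: the residual list
-/

set_option autoImplicit false
set_option linter.unusedSectionVars false

namespace Cfsg.Lib.SPL

variable {n i N : ℕ} {Q : ℤ}

/-- boolean form of `Pr` -/
def prB (Q : ℤ) (i m : ℕ) : Bool := w Q i % m == 0 && (List.range' 1 (i - 1)).all fun d => m.gcd (w Q d) == 1

theorem pr_of_prB {m : ℕ} (h : prB Q i m = true) : Pr Q i m := by
  simp only [prB, Bool.and_eq_true, beq_iff_eq, List.all_eq_true, List.mem_range'_1] at h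
  exact ⟨Nat.dvd_of_mod_eq_zero h.1, fun d a b => h.2 d ⟨a, by omega⟩⟩

/-- the check of one pair -/
def nucB (n : ℕ) (Q : ℤ) (a b : ℕ) : Bool :=
  prB Q n a && prB Q (n - 1) b && ords.all fun N =>
    (tn n Q % 2 == 1 && N % a != 0) || (tm n Q % 2 == 1 && N % b != 0) ||
    (pl.any fun s => N % s.1 == 0 && Q.natAbs % s.1 != 0 && (List.range' 1 n).all fun d => w Q d % s.1 != 0) ||
    resid.contains (n, Q, N) || (n == 5 && Q == -2) || Q == 57 || Q == -87

def nucP (n : ℕ) (Q : ℤ) : Bool := decide (n < 4) || decide (Q.natAbs < 2) || nucB n Q (kp Q n) (kp Q (n - 1))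

theorem nuc_all : cand.all (fun x => nucP x.1 x.2 && nucP (x.1 + 1) x.2) = true := by decide +kernel

theorem nuc_pl : ∀ s ∈ pl, s.1.Prime := by
  simp only [pl, List.mem_cons, List.not_mem_nil, or_false, forall_eq_or_imp, forall_eq]
  norm_num

theorem nuc_npp {a b : ℕ} (ha : a.Prime) (hb : b.Prime) (ne : a ≠ b) : ¬ IsPrimePow (a * b) := fun h => by
  obtain ⟨p, k, hp, -, e⟩ := (isPrimePow_nat_iff _).1 h
  have h1 := (Nat.prime_dvd_prime_iff_eq ha hp).1 (ha.dvd_of_dvd_pow (e ▸ Nat.dvd_mul_right a b))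
  have h2 := (Nat.prime_dvd_prime_iff_eq hb hp).1 (hb.dvd_of_dvd_pow (e ▸ Nat.dvd_mul_left b a))
  exact ne (h1.trans h2.symm)

/-- `decide +kernel` over `(i, Q) ∈ cand` with `2 ≤ |Q|`, `n ∈ {i, i + 1}`, `4 ≤ n`, `N ∈ ords` (252 * 2 * 27 cases; compute `kp Q n`,
`kp Q (n - 1)` once per pair, check `Pr` for both): `h1`, `h2` for `m = kp ..`, `h3` for the primes `s` in `pl.map (·.1)`.  Besides
`resid` only `(5, -2, _)`, `(4, 57, Ru)`, `(6, -87, Th)` survive; 57 and 87 are not prime powers. -/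
theorem Nm.fin (h : Nm n Q N) (hi : i = n ∨ i + 1 = n) (hc : (i, Q) ∈ cand) : (n, Q, N) ∈ resid ∨ n = 5 ∧ Q = -2 := by
  have k : nucP n Q = true := by
    have := List.all_eq_true.1 nuc_all _ hc
    simp only [Bool.and_eq_true] at this
    rcases hi with rfl | rfl
    exacts [this.1, this.2]
  have two := h.pp.two_le
  have hn := h.hn
  simp only [nucP, nucB, Bool.or_eq_true, decide_eq_true_eq, Bool.and_eq_true, List.all_eq_true] at k
  obtain (k | k) | ⟨⟨a, b⟩, k⟩ := k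
  · omega
  · omega
  have k := k N h.mem
  simp only [beq_iff_eq, bne_iff_ne, List.any_eq_true, Bool.and_eq_true, List.all_eq_true, List.contains_iff_mem,
    List.mem_range'_1] at k
  rcases k with (((((k | k) | ⟨s, hs, ⟨k1, k2⟩, k3⟩) | k) | k) | rfl) | rfl
  · exact absurd (Nat.mod_eq_zero_of_dvd (h.h1 (Nat.odd_iff.2 k.1) _ (pr_of_prB a))) k.2
  · exact absurd (Nat.mod_eq_zero_of_dvd (h.h2 (Nat.odd_iff.2 k.1) _ (pr_of_prB b))) k.2
  · rcases h.h3 s.1 (nuc_pl s hs) (Nat.dvd_of_mod_eq_zero k1) with d | ⟨d, d1, d2, d3⟩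
    · exact absurd (Nat.mod_eq_zero_of_dvd d) k2
    · exact absurd (Nat.mod_eq_zero_of_dvd d3) (k3 d ⟨d2, by omega⟩)
  · exact .inl k
  · exact .inr k
  · exact absurd h.pp (nuc_npp (a := 3) (b := 19) (by norm_num) (by norm_num) (by norm_num))
  · exact absurd h.pp (nuc_npp (a := 3) (b := 29) (by norm_num) (by norm_num) (by norm_num))

theorem Nm.resid (h : Nm n Q N) : (n, Q, N) ∈ resid ∨ n = 5 ∧ Q = -2 := by
  have two := h.pp.two_le
  have hn := h.hn
  obtain ⟨i, hi, k⟩ : ∃ i, (i = n ∨ i + 1 = n) ∧ ∀ m, Pr Q i m → m ∣ MM := (odd_or hn two).elim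
    (fun o => ⟨n, .inl rfl, fun m a => (h.h1 o m a).trans (dvd_MM h.mem)⟩)
    fun o => ⟨n - 1, .inr (by omega), fun m a => (h.h2 o m a).trans (dvd_MM h.mem)⟩
  refine h.fin hi ?_
  rcases (by omega : i = 3 ∨ i = 4 ∨ i = 6 ∨ 5 ≤ i ∧ i ≠ 6) with rfl | rfl | rfl | ⟨a, b⟩
  exacts [cand3 k, cand4 k, cand6 k, List.mem_append_right _ (mem_big a b two k)]

end Cfsg.Lib.SPL
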