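import Cfsg.Agent.Lib.SPL.Def
import Cfsg.Agent.Lib.GLC.Zsig2
import Cfsg.Agent.Lib.GLC.Ord2

/-!
# S3586, numbers: candidate lists, parity of the torus orders, primitive divisors
-/

set_option autoImplicit false

namespace Cfsg.Lib.SPL

/-- all `x` with `x ^ 2 + x + 1 = c * m`, `c ∈ {1, 3}`, `m ∣ 7 ^ 6 * 13 ^ 3 * 19 * 31 * 37 * 43 * 67` -/
def q3 : List ℕ := [0, 1, 2, 3, 4, 5, 6, 7, 9, 10, 11, 16, 18, 22, 25, 26, 29, 30, 36, 37, 49, 67, 79, 87, 100, 121, 163, 165, 178,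
  191, 211, 315, 380, 565, 676, 900, 1369, 1712, 2382, 2629, 3446, 25363]

/-- all `x` with `x ^ 2 + 1 = c * m`, `c ∈ {1, 2}`, `m ∣ 5 ^ 9 * 13 ^ 3 * 17 * 29 * 37 * 41` -/
def q4 : List ℕ := [0, 1, 2, 3, 4, 5, 6, 7, 8, 9, 12, 13, 17, 18, 21, 31, 32, 43, 47, 57, 68, 70, 73, 99, 132, 157, 191, 268, 278,
  302, 307, 993, 2943]

/-- all `(i, Q)`, `i ≥ 5`, `i ≠ 6`, `|Q| ≥ 2`, such that the primitive part of `Q ^ i - 1` divides `MM` -/
def big : List (ℕ × ℤ) := [(5, 2), (5, 3), (5, 4), (5, 5), (5, 16), (5, -2), (5, -4), (7, -2), (8, 2), (8, 3), (8, -2), (8, -3),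
  (9, -2), (9, -3), (10, 2), (10, 4), (10, -2), (10, -3), (10, -4), (10, -5), (10, -16), (12, 2), (12, -2), (14, 2), (18, 2),
  (18, 3), (20, 2), (20, -2)]

/-- the candidates `(i, Q)` -/
def cand : List (ℕ × ℤ) :=
  (q3.flatMap fun x => [(3, (x : ℤ)), (3, -(x : ℤ) - 1), (6, -(x : ℤ)), (6, (x : ℤ) + 1)]) ++
    (q4.flatMap fun x => [(4, (x : ℤ)), (4, -(x : ℤ))]) ++ big

/-- the primitive part of `Q ^ i - 1` in all cases that are computed (check `Pr Q i (kp Q i)` by `decide +kernel`) -/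
def kp (Q : ℤ) (i : ℕ) : ℕ := w Q i / (w Q i).gcd (((List.range' 1 (i - 1)).map (w Q)).prod ^ 16)

/-- the order of `q` modulo a primitive prime divisor of `(-q) ^ i - 1` -/
def nu (i : ℕ) : ℕ := if i % 2 = 1 then 2 * i else if i % 4 = 2 then i / 2 else i

variable {n i m q N : ℕ} {Q : ℤ}

theorem nu0_geom (Q : ℤ) (n : ℕ) : Q - 1 ∣ (∑ i ∈ Finset.range n, Q ^ i) - n := by
  have : (∑ i ∈ Finset.range n, Q ^ i) - n = ∑ i ∈ Finset.range n, (Q ^ i - 1 ^ i) := by simp [Finset.sum_sub_distrib]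
  exact this ▸ Finset.dvd_sum fun i _ => sub_dvd_pow_sub_pow Q 1 i

theorem nu0_w (Q : ℤ) (n : ℕ) : w Q n = w Q 1 * (∑ i ∈ Finset.range n, Q ^ i).natAbs := by
  rw [w, w, ← Int.natAbs_mul, pow_one, mul_geom_sum]

theorem nu0_pos (two : 2 ≤ Q.natAbs) : 0 < w Q 1 := by
  rw [w, pow_one]; omega

theorem nu0_gcd (Q : ℤ) (n : ℕ) : n.gcd (w Q 1) ∣ (∑ i ∈ Finset.range n, Q ^ i).natAbs := by
  rw [← Int.natCast_dvd]
  have h1 : ((n.gcd (w Q 1) : ℕ) : ℤ) ∣ Q - 1 := Int.natCast_dvd.2 (by simpa [w] using Nat.gcd_dvd_right n (w Q 1))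
  simpa using dvd_add (h1.trans (nu0_geom Q n)) (Int.natCast_dvd_natCast.2 (Nat.gcd_dvd_left n (w Q 1)))

theorem nu0_tn (two : 2 ≤ Q.natAbs) : tn n Q * n.gcd (w Q 1) = (∑ i ∈ Finset.range n, Q ^ i).natAbs := by
  rw [tn, nu0_w Q n, Nat.mul_div_mul_left _ _ (nu0_pos two), Nat.div_mul_cancel (nu0_gcd Q n)]

theorem nu0_tm (n : ℕ) (Q : ℤ) : tm n Q * n.gcd (w Q 1) = w Q (n - 1) := by
  rw [tm, Nat.div_mul_cancel ((Nat.gcd_dvd_right _ _).trans (nu0_w Q (n - 1) ▸ dvd_mul_right _ _))]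

theorem nu0_odd (h : Even Q) (hn : 0 < n) : Odd (w Q n) :=
  Int.natAbs_odd.2 ((h.pow_of_ne_zero hn.ne').sub_odd odd_one)

theorem nu0_and (hn : 4 ≤ n) (two : 2 ≤ Q.natAbs) (h : Even Q) : Odd (tn n Q) ∧ Odd (tm n Q) := by
  have h1 := nu0_odd (n := n) h (by omega)
  have h2 := nu0_odd (n := n - 1) h (by omega)
  rw [nu0_w, ← nu0_tn two] at h1
  rw [← nu0_tm] at h2
  exact ⟨(Nat.odd_mul.1 (Nat.odd_mul.1 h1).2).1, (Nat.odd_mul.1 h2).1⟩

/-- `Q` even: `w Q n` is odd and `tn n Q` divides it (`w Q 1 * gcd n (w Q 1) ∣ w Q n`: `s = ∑ i < n, Q ^ i ≡ n mod (Q - 1)`).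
`Q` odd, `a = v₂ n`, `b = v₂ (Q - 1) ≥ 1`.  `b ≤ a`: `n - 1` is odd, `w Q (n - 1) = w Q 1 * odd`, `2 ^ b ∣ gcd`, `tm` is odd.
`a < b`: `tn = |s| / gcd n (w Q 1)`; `a = 0`: `s` is odd; `a ≥ 1`: `4 ∣ Q - 1`, `v₂ s = a` (`Int.two_pow_sub_pow'` or
`padicValNat.pow_two_sub_pow`; `Int.two_pow_sub_pow`), `2 ^ a ∣ gcd`. -/
theorem odd_or (hn : 4 ≤ n) (two : 2 ≤ Q.natAbs) : Odd (tn n Q) ∨ Odd (tm n Q) := by
  rcases Int.even_or_odd Q with h | h
  · exact .inl (nu0_and hn two h).1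
  by_contra H
  rw [not_or, Nat.not_odd_iff_even, Nat.not_odd_iff_even] at H
  have u0 := nu0_pos two
  have q2 : (2 : ℤ) ∣ Q - 1 := (h.sub_odd odd_one).two_dvd
  have od : ∀ k : ℕ, Odd k → Odd (∑ i ∈ Finset.range k, Q ^ i).natAbs := fun k hk => by
    have := (even_iff_two_dvd.2 (q2.trans (nu0_geom Q k))).add_odd hk.natCast
    rw [sub_add_cancel] at this
    exact Int.natAbs_odd.2 this
  obtain ⟨c, t, ht, e⟩ := Nat.exists_eq_two_pow_mul_odd (Nat.gcd_pos_of_pos_right n u0).ne'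
  have d : ∀ x, Even x → 2 ^ (c + 1) ∣ x * n.gcd (w Q 1) := fun x hx => by
    rw [e, pow_succ']; exact mul_dvd_mul hx.two_dvd (dvd_mul_right _ _)
  have d1 := d _ H.1
  have d2 := d _ H.2
  rw [nu0_tn two] at d1
  rw [nu0_tm, nu0_w] at d2
  rcases Nat.even_or_odd n with hn2 | hn2
  swap
  · exact (od n hn2).not_two_dvd_nat ((dvd_pow_self 2 (by omega)).trans d1)
  have d3 : 2 ^ (c + 1) ∣ w Q 1 :=
    (Nat.Coprime.pow_left _ (Nat.coprime_two_left.2 (od _ (Nat.Even.sub_odd (by omega) hn2 odd_one)))).dvd_of_dvd_mul_right d2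
  have c0 : c ≠ 0 := by
    rintro rfl
    refine ht.not_two_dvd_nat ?_
    rw [pow_zero, one_mul] at e
    exact e ▸ Nat.dvd_gcd hn2.two_dvd d3
  have q4 : (4 : ℤ) ∣ Q - 1 := by
    have : 2 ^ 2 ∣ w Q 1 := (pow_dvd_pow 2 (by omega)).trans d3
    exact_mod_cast Int.natCast_dvd.2 (by simpa [w] using this)
  have l := Int.two_pow_sub_pow' n q4 (by rw [← even_iff_two_dvd, Int.not_even_iff_odd]; exact h)
  rw [one_pow, ← mul_geom_sum, emultiplicity_mul Int.prime_two] at l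
  have l' := (ENat.add_right_injective_of_ne_top (finiteMultiplicity_iff_emultiplicity_ne_top.1
    (Int.finiteMultiplicity_iff.2 ⟨by decide, by omega⟩))) l
  have d4 : 2 ^ (c + 1) ∣ n := by
    have := Int.natCast_dvd.2 d1
    rw [Nat.cast_pow, pow_dvd_iff_le_emultiplicity, Nat.cast_ofNat, l', ← pow_dvd_iff_le_emultiplicity] at this
    exact_mod_cast this
  have := Nat.dvd_gcd d4 d3
  rw [e, pow_succ, Nat.mul_dvd_mul_iff_left (by positivity)] at this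
  exact ht.not_two_dvd_nat this

/-- both are odd for even `Q` (divisors of the odd numbers `w Q n`, `w Q (n - 1)`) -/
theorem odd_and (hn : 4 ≤ n) (two : 2 ≤ Q.natAbs) (h : Even Q) : Odd (tn n Q) ∧ Odd (tm n Q) := by
  exact nu0_and hn two h

theorem nu0_nat (hq : 0 < q) (d : ℕ) : w q d = q ^ d - 1 := by
  have := Nat.one_le_pow d q hq
  rw [w, ← Nat.cast_pow]; omega

theorem nu0_dvd {r d : ℕ} : r ∣ w Q d ↔ (Q : ZMod r) ^ d = 1 := by
  rw [w, ← Int.natCast_dvd, ← ZMod.intCast_zmod_eq_zero_iff_dvd]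
  push_cast
  exact sub_eq_zero

/-- `w q d = q ^ d - 1`; a common prime `r` of `m` and `q ^ d - 1` has `i ∣ d` (`GLC.dvd_pow_sub_one_iff`). -/
theorem pr_pos (hq : 2 ≤ q) (d : m ∣ q ^ i - 1) (h : ∀ r : ℕ, r.Prime → r ∣ m → orderOf (q : ZMod r) = i) : Pr q i m := by
  refine ⟨by rwa [nu0_nat (by omega)], fun e e0 ei => Nat.Coprime.symm (Nat.coprime_of_dvd fun r hr h1 h2 => ?_)⟩
  rw [nu0_nat (by omega), GLC.dvd_pow_sub_one_iff (by omega), h r hr h2] at h1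
  exact (Nat.le_of_dvd e0 h1).not_gt ei

/-- `j = nu i ≥ 3`.  `i` odd: `q ^ (2 i) - 1 = (q ^ i - 1) (q ^ i + 1)`, `m` is prime to the first factor.  `i` even:
`q ^ j - 1 ∣ q ^ i - 1`.  A prime `r ∣ m` with `r ∣ w (-q) d`, `0 < d < i`: in `ZMod r`, `(-q) ^ d = 1`; `d` even: `j ∣ d`; `d` odd:
`q ^ d = -1`, `j ∣ 2 d` and `¬ j ∣ d` (else `2 = 0`, `r = 2`, order `≤ 1`); each case contradicts `0 < d < i` (`omega`). -/
theorem pr_neg (hq : 2 ≤ q) (hi : 3 ≤ i) (d : m ∣ q ^ nu i - 1) (h : ∀ r : ℕ, r.Prime → r ∣ m → orderOf (q : ZMod r) = nu i) :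
    Pr (-q) i m := by
  have q0 : 0 < q := by omega
  have key : ∀ r : ℕ, r.Prime → r ∣ m → ∀ e, ((-(q : ℤ) : ℤ) : ZMod r) ^ e = 1 → 0 < e → i ≤ e := fun r hr h2 e he e0 => by
    have := Fact.mk hr
    have o := h r hr h2
    push_cast at he
    rcases Nat.even_or_odd e with he2 | he2
    · rw [he2.neg_pow, ← orderOf_dvd_iff_pow_eq_one, o] at he
      obtain ⟨a, rfl⟩ := he2
      obtain ⟨b, hb⟩ := he
      unfold nu at hb
      rcases b with _ | _ | b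
      · omega
      · split_ifs at hb <;> omega
      · rw [mul_add, mul_add] at hb
        split_ifs at hb <;> omega
    · rw [he2.neg_pow, neg_eq_iff_eq_neg] at he
      have h3 : nu i ∣ 2 * e := by rw [← o, orderOf_dvd_iff_pow_eq_one, pow_mul', he, neg_one_sq]
      have h4 : ¬ nu i ∣ e := fun h4 => by
        rw [← o, orderOf_dvd_iff_pow_eq_one, he] at h4
        have : r = 2 := by
          have : ((2 : ℕ) : ZMod r) = 0 := by push_cast; linear_combination -h4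
          exact (Nat.prime_dvd_prime_iff_eq hr Nat.prime_two).1 ((ZMod.natCast_eq_zero_iff _ _).1 this)
        subst this
        have := orderOf_le_card_univ (x := (q : ZMod 2))
        rw [o, ZMod.card] at this
        unfold nu at this
        split_ifs at this <;> omega
      obtain ⟨a, rfl⟩ := he2
      unfold nu at h3 h4
      split_ifs at h3 h4 with h5 h6
      · exact Nat.le_of_dvd e0 (Nat.dvd_of_mul_dvd_mul_left two_pos h3)
      · exact absurd ((Nat.coprime_two_right.2 (Nat.odd_iff.2 (by omega))).dvd_of_dvd_mul_left h3) h4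
      · have := (show 4 ∣ i by omega).trans h3
        omega
  refine ⟨?_, fun e e0 ei => Nat.Coprime.symm (Nat.coprime_of_dvd fun r hr h1 h2 =>
    (key r hr h2 e (nu0_dvd.1 h1) e0).not_gt ei)⟩
  have one := Nat.one_le_pow i q q0
  rcases Nat.even_or_odd i with hi2 | hi2
  · have : w (-q) i = q ^ i - 1 := by rw [w, hi2.neg_pow, ← w, nu0_nat q0]
    rw [this]
    refine d.trans (Nat.pow_sub_one_dvd_pow_sub_one _ ?_)
    have := Nat.even_iff.1 hi2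
    unfold nu
    split_ifs
    · omega
    · exact Nat.div_dvd_of_dvd hi2.two_dvd
    · rfl
  · have e1 : w (-q) i = q ^ i + 1 := by rw [w, hi2.neg_pow, ← Nat.cast_pow]; omega
    have e2 : nu i = 2 * i := if_pos (Nat.odd_iff.1 hi2)
    rw [e2, pow_mul', ← one_pow 2, Nat.sq_sub_sq] at d
    rw [e1]
    refine Nat.Coprime.dvd_of_dvd_mul_right (Nat.coprime_of_dvd fun r hr h1 h2 => ?_) d
    rw [GLC.dvd_pow_sub_one_iff q0, h r hr h1, e2] at h2
    have := Nat.le_of_dvd (by omega) h2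
    omega

theorem nu0_ex (hi : 3 ≤ i) (two : 2 ≤ Q.natAbs) (h1 : ¬ (Q = 2 ∧ i = 6)) (h2 : ¬ (Q = -2 ∧ i = 3)) :
    ∃ r, r.Prime ∧ Pr Q i r := by
  obtain ⟨q, rfl | rfl⟩ := Q.eq_nat_or_neg
  · rw [Int.natAbs_natCast] at two
    obtain ⟨r, hr, o⟩ := GLC.zsigmondy (a := q) (n := i) two (by omega) (by omega) (by omega)
    exact ⟨r, hr, pr_pos two ((GLC.dvd_pow_sub_one_iff (by omega)).2 o.dvd) fun s hs d =>
      (Nat.prime_dvd_prime_iff_eq hs hr).1 d ▸ o⟩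
  · rw [Int.natAbs_neg, Int.natAbs_natCast] at two
    have : 3 ≤ nu i ∧ (nu i = 6 → i = 3) := by unfold nu; split_ifs <;> omega
    obtain ⟨r, hr, o⟩ := GLC.zsigmondy (a := q) (n := nu i) two (by omega) (by omega) (by omega)
    exact ⟨r, hr, pr_neg two hi ((GLC.dvd_pow_sub_one_iff (by omega)).2 o.dvd) fun s hs d =>
      (Nat.prime_dvd_prime_iff_eq hs hr).1 d ▸ o⟩

/-- `GLC.zsigmondy` with `pr_pos`, `pr_neg`.  The exceptions are `(Q, i) = (2, 6)` and `(-2, 3)` (`nu i = 6 ↔ i = 3`); for even `Q`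
both `i = n` and `i = n - 1` are allowed (`odd_and`), for odd `Q` use `odd_or`. -/
theorem exists_r (hn : 4 ≤ n) (two : 2 ≤ Q.natAbs) :
    ∃ r, r.Prime ∧ (Odd (tn n Q) ∧ Pr Q n r ∨ Odd (tm n Q) ∧ Pr Q (n - 1) r) := by
  rcases Int.even_or_odd Q with h | h
  · obtain ⟨h1, h2⟩ := odd_and hn two h
    by_cases e : Q = 2 ∧ n = 6
    · obtain ⟨r, hr, o⟩ := nu0_ex (i := n - 1) (by omega) two (by omega) (by omega)
      exact ⟨r, hr, .inr ⟨h2, o⟩⟩
    · obtain ⟨r, hr, o⟩ := nu0_ex (i := n) (by omega) two e (by omega)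
      exact ⟨r, hr, .inl ⟨h1, o⟩⟩
  have := Int.odd_iff.1 h
  rcases odd_or hn two with h1 | h1
  · obtain ⟨r, hr, o⟩ := nu0_ex (i := n) (by omega) two (by omega) (by omega)
    exact ⟨r, hr, .inl ⟨h1, o⟩⟩
  · obtain ⟨r, hr, o⟩ := nu0_ex (i := n - 1) (by omega) two (by omega) (by omega)
    exact ⟨r, hr, .inr ⟨h1, o⟩⟩

/-- `r ∤ Q`, so `r ∣ w Q (r - 1)` (Fermat in `ZMod r`) and `i ≤ r - 1`; `r = 4` is not prime. -/
theorem Pr.five_le {r : ℕ} (h : Pr Q i m) (hi : 3 ≤ i) (hr : r.Prime) (d : r ∣ m) : 5 ≤ r ∧ ¬ (r : ℤ) ∣ Q := by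
  have := Fact.mk hr
  have n0 : ¬ (r : ℤ) ∣ Q := fun e => by
    have := nu0_dvd.1 (d.trans h.1)
    rw [(ZMod.intCast_zmod_eq_zero_iff_dvd _ _).2 e, zero_pow (by omega)] at this
    exact zero_ne_one this
  refine ⟨?_, n0⟩
  have f : r ∣ w Q (r - 1) := nu0_dvd.2 (ZMod.pow_card_sub_one_eq_one fun e => n0 ((ZMod.intCast_zmod_eq_zero_iff_dvd _ _).1 e))
  have two := hr.two_le
  have : i ≤ r - 1 := le_of_not_gt fun l => hr.one_lt.ne' (Nat.eq_one_of_dvd_coprimes (h.2 _ (by omega) l) d f)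
  have : r ≠ 4 := by rintro rfl; exact absurd hr (by decide)
  omega

end Cfsg.Lib.SPL
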