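import Cfsg.Agent.Lib.SPL.Nu0

/-!
# S3586, numbers: `i = 3, 4, 6`
-/

set_option autoImplicit false

namespace Cfsg.Lib.SPL

variable {c m x : ℕ} {Q : ℤ}

/-- the divisors of a product of prime powers -/
def nuaDv (l : List (ℕ × ℕ)) : List ℕ :=
  l.foldr (fun y r => (List.range (y.2 + 1)).flatMap fun k => r.map (y.1 ^ k * ·)) [1]

theorem mem_nuaDv (l : List (ℕ × ℕ)) (hl : ∀ y ∈ l, y.1.Prime) :
    ∀ m, m ∣ (l.map fun y => y.1 ^ y.2).prod → m ∈ nuaDv l := by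
  induction l with
  | nil => intro m h; simpa [nuaDv] using h
  | cons y l ih =>
    intro m h
    rw [List.map_cons, List.prod_cons] at h
    obtain ⟨a, b, ha, hb, rfl⟩ := Nat.dvd_mul.1 h
    obtain ⟨k, hk, rfl⟩ := (Nat.dvd_prime_pow (hl y List.mem_cons_self)).1 ha
    exact List.mem_flatMap.2 ⟨k, List.mem_range.2 (by omega),
      List.mem_map.2 ⟨b, ih (fun z hz => hl z (List.mem_cons_of_mem _ hz)) b hb, rfl⟩⟩

theorem nua_cop (a : ℕ) {r : ℕ} (hr : r.Prime) (h : ∀ y < r, (y ^ 2 + a * y + 1) % r ≠ 0) (d : m ∣ x ^ 2 + a * x + 1) :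
    m.Coprime r :=
  Nat.Coprime.coprime_dvd_left d (Nat.Coprime.symm (hr.coprime_iff_not_dvd.2 fun k => h (x % r) (Nat.mod_lt _ hr.pos)
    (((((Nat.mod_modEq x r).pow 2).add ((Nat.mod_modEq x r).mul_left a)).add_right 1).trans
      (Nat.modEq_zero_iff_dvd.2 k))))

theorem nua_pr {i : ℕ} {v : ℤ} (hm : (m : ℤ) ∣ v) (hc : m.Coprime c) (h1 : v ∣ Q ^ i - 1)
    (h2 : ∀ d, 0 < d → d < i → ∃ a b : ℤ, (c : ℤ) = a * v + b * (Q ^ d - 1)) : Pr Q i m := by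
  refine ⟨Int.natCast_dvd.1 (hm.trans h1), fun d d0 di => ?_⟩
  obtain ⟨a, b, e⟩ := h2 d d0 di
  refine Nat.eq_one_of_dvd_coprimes hc (Nat.gcd_dvd_left _ _) (Int.natCast_dvd_natCast.1 ?_)
  rw [e]
  exact dvd_add (((Int.natCast_dvd_natCast.2 (Nat.gcd_dvd_left _ _)).trans hm).mul_left a)
    ((Int.natCast_dvd.2 (Nat.gcd_dvd_right _ _)).mul_left b)

/-- `m = 7 ^ a * 13 ^ b * ⋯` (`Nat.dvd_mul`, `Nat.dvd_prime_pow`), `4 c m - 3 = (2 x + 1) ^ 2`; `Nat.sqrt` reduces in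
`decide +kernel` (state the check with `List.all` / `List.range`, nested bounded `∀` exceed the instance size). -/
theorem mem_q3 (hc : c = 1 ∨ c = 3) (d : m ∣ 7 ^ 6 * 13 ^ 3 * 19 * 31 * 37 * 43 * 67) (e : x ^ 2 + x + 1 = c * m) : x ∈ q3 := by
  have k : ((nuaDv [(7, 6), (13, 3), (19, 1), (31, 1), (37, 1), (43, 1), (67, 1)]).all fun m => [1, 3].all fun c =>
      (4 * (c * m) - 3).sqrt ^ 2 != 4 * (c * m) - 3 || q3.contains ((4 * (c * m) - 3).sqrt / 2)) = true := by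
    decide +kernel
  have := List.all_eq_true.1 (List.all_eq_true.1 k m (mem_nuaDv _ (by simp only [List.forall_mem_cons]; norm_num) m
    (by simpa using d))) c (by simpa using hc)
  rw [← e, show 4 * (x ^ 2 + x + 1) - 3 = (2 * x + 1) ^ 2 from Nat.sub_eq_of_eq_add (by ring), Nat.sqrt_eq',
    show (2 * x + 1) / 2 = x by omega] at this
  simpa using this

theorem mem_q4 (hc : c = 1 ∨ c = 2) (d : m ∣ 5 ^ 9 * 13 ^ 3 * 17 * 29 * 37 * 41) (e : x ^ 2 + 1 = c * m) : x ∈ q4 := by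
  have k : ((nuaDv [(5, 9), (13, 3), (17, 1), (29, 1), (37, 1), (41, 1)]).all fun m => [1, 2].all fun c =>
      (c * m - 1).sqrt ^ 2 != c * m - 1 || q4.contains (c * m - 1).sqrt) = true := by
    decide +kernel
  have := List.all_eq_true.1 (List.all_eq_true.1 k m (mem_nuaDv _ (by simp only [List.forall_mem_cons]; norm_num) m
    (by simpa using d))) c (by simpa using hc)
  rw [← e, Nat.add_sub_cancel, Nat.sqrt_eq'] at this
  simpa using this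

/-- `v = x ^ 2 + x + 1`, `9 ∤ v`; `c = gcd v 3`.  A prime `r ≠ 3` dividing `v` is `≡ 1 mod 3` (`x` has order 3 in `ZMod r`), so `m` is
prime to `2 ^ 46 * 3 ^ 20 * 5 ^ 9 * 11 ^ 3 * 17 * 23 * 29 * 41 * 47 * 59 * 71` (`Nat.Coprime.dvd_of_dvd_mul_right`). -/
theorem mem_q3' (h : ∀ m, m ∣ x ^ 2 + x + 1 → m.Coprime 3 → m ∣ MM) : x ∈ q3 := by
  obtain ⟨c, m, hc, e, k⟩ : ∃ c m, (c = 1 ∨ c = 3) ∧ x ^ 2 + x + 1 = c * m ∧ ¬ 3 ∣ m := by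
    by_cases k : 3 ∣ x ^ 2 + x + 1
    · obtain ⟨m, e⟩ := k
      refine ⟨3, m, .inr rfl, e, fun ⟨j, f⟩ => (by decide : ∀ y < 9, (y ^ 2 + y + 1) % 9 ≠ 0) (x % 9) (by omega)
        (((((Nat.mod_modEq x 9).pow 2).add (Nat.mod_modEq x 9)).add_right 1).trans
          (Nat.modEq_zero_iff_dvd.2 ⟨j, by rw [e, f]; ring⟩))⟩
    · exact ⟨1, _, .inl rfl, (one_mul _).symm, k⟩
  have c3 := (Nat.prime_three.coprime_iff_not_dvd.2 k).symm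
  have d : m ∣ x ^ 2 + 1 * x + 1 := by rw [one_mul, e]; exact dvd_mul_left _ _
  have := h m (by rwa [one_mul] at d) c3
  rw [show MM = 7 ^ 6 * 13 ^ 3 * 19 * 31 * 37 * 43 * 67 *
    (2 ^ 46 * 3 ^ 20 * 5 ^ 9 * 11 ^ 3 * 17 * 23 * 29 * 41 * 47 * 59 * 71) by decide +kernel] at this
  refine mem_q3 hc (Nat.Coprime.dvd_of_dvd_mul_right ?_ this) e
  simp only [Nat.coprime_mul_iff_right]
  refine ⟨⟨⟨⟨⟨⟨⟨⟨⟨⟨.pow_right _ ?_, c3.pow_right _⟩, .pow_right _ ?_⟩, .pow_right _ ?_⟩, ?_⟩, ?_⟩, ?_⟩, ?_⟩, ?_⟩, ?_⟩, ?_⟩ <;>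
    exact nua_cop 1 (by norm_num) (by decide +kernel) d

/-- the same with `v = x ^ 2 + 1`, `4 ∤ v`, odd primes dividing `v` are `≡ 1 mod 4` (`ZMod.mod_four_ne_three_of_sq_eq_neg_one`) -/
theorem mem_q4' (h : ∀ m, m ∣ x ^ 2 + 1 → m.Coprime 2 → m ∣ MM) : x ∈ q4 := by
  obtain ⟨c, m, hc, e, k⟩ : ∃ c m, (c = 1 ∨ c = 2) ∧ x ^ 2 + 1 = c * m ∧ ¬ 2 ∣ m := by
    by_cases k : 2 ∣ x ^ 2 + 1
    · obtain ⟨m, e⟩ := k
      refine ⟨2, m, .inr rfl, e, fun ⟨j, f⟩ => (by decide : ∀ y < 4, (y ^ 2 + 1) % 4 ≠ 0) (x % 4) (by omega)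
        ((((Nat.mod_modEq x 4).pow 2).add_right 1).trans (Nat.modEq_zero_iff_dvd.2 ⟨j, by rw [e, f]; ring⟩))⟩
    · exact ⟨1, _, .inl rfl, (one_mul _).symm, k⟩
  have c2 := (Nat.prime_two.coprime_iff_not_dvd.2 k).symm
  have d : m ∣ x ^ 2 + 0 * x + 1 := by rw [zero_mul, add_zero, e]; exact dvd_mul_left _ _
  have := h m (by rwa [zero_mul, add_zero] at d) c2
  rw [show MM = 5 ^ 9 * 13 ^ 3 * 17 * 29 * 37 * 41 *
    (2 ^ 46 * 3 ^ 20 * 7 ^ 6 * 11 ^ 3 * 19 * 23 * 31 * 43 * 47 * 59 * 67 * 71) by decide +kernel] at this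
  refine mem_q4 hc (Nat.Coprime.dvd_of_dvd_mul_right ?_ this) e
  simp only [Nat.coprime_mul_iff_right]
  refine ⟨⟨⟨⟨⟨⟨⟨⟨⟨⟨⟨c2.pow_right _, .pow_right _ ?_⟩, .pow_right _ ?_⟩, .pow_right _ ?_⟩, ?_⟩, ?_⟩, ?_⟩, ?_⟩, ?_⟩, ?_⟩,
    ?_⟩, ?_⟩ <;> exact nua_cop 0 (by norm_num) (by decide +kernel) d

/-- `Q = x` or `Q = -x - 1`, `Q ^ 2 + Q + 1 = x ^ 2 + x + 1`.  A divisor `m` prime to 3 satisfies `Pr Q 3 m`: a prime dividing
`Q ^ 2 + Q + 1` and `Q ^ 2 - 1` divides 3. -/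
theorem cand3 (h : ∀ m, Pr Q 3 m → m ∣ MM) : (3, Q) ∈ cand := by
  obtain ⟨x, hx⟩ : ∃ x : ℕ, Q = x ∨ Q = -x - 1 := by
    rcases le_or_gt 0 Q with k | k
    exacts [⟨Q.toNat, .inl (by omega)⟩, ⟨(-Q - 1).toNat, .inr (by omega)⟩]
  have e : ((x ^ 2 + x + 1 : ℕ) : ℤ) = Q ^ 2 + Q + 1 := by rcases hx with rfl | rfl <;> push_cast <;> ring
  have := mem_q3' (x := x) fun m d c => h m (nua_pr (e ▸ Int.natCast_dvd_natCast.2 d) c ⟨Q - 1, by ring⟩ fun d _ _ => by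
    interval_cases d
    exacts [⟨1, -(Q + 2), by push_cast; ring⟩, ⟨-(Q - 2), Q - 1, by push_cast; ring⟩])
  exact List.mem_append_left _ (List.mem_append_left _ (List.mem_flatMap.2
    ⟨x, List.mem_flatMap.2 ⟨x, this, List.mem_singleton_self _⟩, by rcases hx with rfl | rfl <;> simp⟩))

/-- `x = |Q|`; an odd divisor `m` of `Q ^ 2 + 1` satisfies `Pr Q 4 m` (in `ZMod r`: `Q ^ 2 = -1` and `Q ^ d = 1`, `d ≤ 3`, give `2 = 0`). -/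
theorem cand4 (h : ∀ m, Pr Q 4 m → m ∣ MM) : (4, Q) ∈ cand := by
  obtain ⟨x, hx⟩ := Int.eq_nat_or_neg Q
  have e : ((x ^ 2 + 1 : ℕ) : ℤ) = Q ^ 2 + 1 := by rcases hx with rfl | rfl <;> push_cast <;> ring
  have := mem_q4' (x := x) fun m d c => h m (nua_pr (e ▸ Int.natCast_dvd_natCast.2 d) c ⟨Q ^ 2 - 1, by ring⟩ fun d _ _ => by
    interval_cases d
    exacts [⟨1, -(Q + 1), by push_cast; ring⟩, ⟨1, -1, by push_cast; ring⟩, ⟨-(Q ^ 2 - Q - 1), Q - 1, by push_cast; ring⟩])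
  exact List.mem_append_left _ (List.mem_append_right _ (List.mem_flatMap.2
    ⟨x, List.mem_flatMap.2 ⟨x, this, List.mem_singleton_self _⟩, by rcases hx with rfl | rfl <;> simp⟩))

/-- `Q = -x` or `Q = x + 1`, `Q ^ 2 - Q + 1 = x ^ 2 + x + 1` (odd).  A divisor prime to 3 satisfies `Pr Q 6 m` (in `ZMod r`:
`Q ^ 3 = -1`, `Q ^ 2 = Q - 1`, and `Q ^ d = 1`, `d ≤ 5`, give `2 = 0` or `3 = 0`). -/
theorem cand6 (h : ∀ m, Pr Q 6 m → m ∣ MM) : (6, Q) ∈ cand := by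
  obtain ⟨x, hx⟩ : ∃ x : ℕ, Q = -x ∨ Q = x + 1 := by
    rcases le_or_gt Q 0 with k | k
    exacts [⟨(-Q).toNat, .inl (by omega)⟩, ⟨(Q - 1).toNat, .inr (by omega)⟩]
  have e : ((x ^ 2 + x + 1 : ℕ) : ℤ) = Q ^ 2 - Q + 1 := by rcases hx with rfl | rfl <;> push_cast <;> ring
  have := mem_q3' (x := x) fun m d c => h m (nua_pr (c := 2 * 3) (e ▸ Int.natCast_dvd_natCast.2 d)
    ((nua_cop (x := x) 1 Nat.prime_two (by decide) (by rwa [one_mul])).mul_right c) ⟨(Q + 1) * (Q ^ 3 - 1), by ring⟩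
    fun d _ _ => by
      interval_cases d
      exacts [⟨6, -6 * Q, by push_cast; ring⟩, ⟨2 * (Q + 2), -2 * (Q + 1), by push_cast; ring⟩,
        ⟨3 * (Q + 1), -3, by push_cast; ring⟩, ⟨2 * (1 - (Q - 2) * Q * (Q + 1)), 2 * (Q - 2), by push_cast; ring⟩,
        ⟨6 * (1 - (Q - 1) * (Q ^ 3 + Q ^ 2 - 1)), 6 * (Q - 1), by push_cast; ring⟩])
  exact List.mem_append_left _ (List.mem_append_left _ (List.mem_flatMap.2
    ⟨x, List.mem_flatMap.2 ⟨x, this, List.mem_singleton_self _⟩, by rcases hx with rfl | rfl <;> simp⟩))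

end Cfsg.Lib.SPL
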