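import Cfsg.Agent.Lib.SPL.Def
import Cfsg.Agent.S0243
import Cfsg.Agent.S0245
import Cfsg.Agent.S0280
import Cfsg.Agent.Lib.Symp.Group
import Cfsg.Prelude.Def_Exceptional

/-!
# S3586: the orders in `ords` are not orders of small groups of Lie type or alternating groups

In every case a prime power `q` divides the order, hence `MM`, so `q ∈ pps`; then `decide +kernel` over `pps` (about 110 numbers) and
`ords`.  Model for the order formulas: `Lib/TA/N1.lean` (`smL`, `smU`, `s4`).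
-/

set_option autoImplicit false

namespace Cfsg.Lib.SPL

open Matrix

/-- the prime powers dividing `MM` -/
def pps : List ℕ := [(2, 46), (3, 20), (5, 9), (7, 6), (11, 3), (13, 3), (17, 1), (19, 1), (23, 1), (29, 1), (31, 1), (37, 1),
  (41, 1), (43, 1), (47, 1), (59, 1), (67, 1), (71, 1)].flatMap fun x => (List.range' 1 x.2).map (x.1 ^ ·)

variable {S : Type*} [Group S] {F : Type*} [Field F] [Fintype F] {n q : ℕ}

/-- `q = p ^ k`; `p ∣ MM` gives `p ≤ 71` and one of the 18 primes; `k` is bounded since `p ^ (e + 1) ∤ MM`. -/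
theorem mem_pps (hq : IsPrimePow q) (d : q ∣ MM) : q ∈ pps := by
  obtain ⟨p, k, hp, hk, rfl⟩ := (isPrimePow_nat_iff q).1 hq
  have key : ∀ l : List (ℕ × ℕ), (∀ x ∈ l, x.1.Prime) → p ^ k ∣ (l.map fun x => x.1 ^ x.2).prod → l.Pairwise (fun x y => x.1 ≠ y.1) →
      p ^ k ∈ l.flatMap fun x => (List.range' 1 x.2).map (x.1 ^ ·) := by
    intro l
    induction l with
    | nil => exact fun _ d _ => absurd (Nat.dvd_one.1 d) (Nat.one_lt_pow hk.ne' hp.one_lt).ne'
    | cons x l ih =>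
      intro a d c
      rw [List.map_cons, List.prod_cons] at d
      rw [List.pairwise_cons] at c
      rw [List.flatMap_cons, List.mem_append]
      by_cases e : x.1 = p
      · have : (p ^ k).Coprime (l.map fun x => x.1 ^ x.2).prod := Nat.Coprime.pow_left _ (Nat.coprime_list_prod_right_iff.2 fun y hy => by
          obtain ⟨z, hz, rfl⟩ := List.mem_map.1 hy
          exact Nat.Coprime.pow_right _ ((Nat.coprime_primes hp (a z (List.mem_cons_of_mem _ hz))).2 (e ▸ c.1 z hz)))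
        have := (Nat.pow_dvd_pow_iff_le_right hp.one_lt).1 (e ▸ this.dvd_of_dvd_mul_right d)
        exact .inl (List.mem_map.2 ⟨k, List.mem_range'_1.2 ⟨hk, by omega⟩, by rw [e]⟩)
      · exact .inr (ih (fun y hy => a y (List.mem_cons_of_mem _ hy)) ((Nat.Coprime.pow _ _ ((Nat.coprime_primes hp
          (a x List.mem_cons_self)).2 (Ne.symm e))).dvd_of_dvd_mul_left d) c.2)
  exact key _ (by norm_num) (by simpa [MM, mul_assoc] using d) (by decide)

theorem Bad.om_pp (h : Bad S) (hq : IsPrimePow q) {c m : ℕ} (hc : c.Coprime q) (e : c * Nat.card S = q * m) : q ∈ pps :=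
  mem_pps hq ((hc.symm.dvd_of_dvd_mul_left ⟨m, e⟩).trans (dvd_MM h.2))

theorem om_cop {a b : ℕ} (h : a + 1 = b) : a.Coprime b := h ▸ by simp

/-- S0243: `gcd n (q - 1) * ((q - 1) * N) = ∏ (q ^ n - q ^ i)`; `q ∣ N` since `q` is prime to the other factors. -/
theorem Bad.psl (h : Bad S) (h2 : 2 ≤ n) (h5 : n ≤ 5) (e : S ≃* ProjectiveSpecialLinearGroup (Fin n) F) : False := by
  obtain ⟨q, hF⟩ : ∃ q, Fintype.card F = q := ⟨_, rfl⟩
  have E := Agent.S0243.result hF n h2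
  rw [← Nat.card_congr e.toEquiv] at E
  have q1 : 1 < q := hF ▸ Fintype.one_lt_card
  have c1 : (q - 1).Coprime q := om_cop (by omega)
  have hq : q ∈ pps := by
    have : q ∣ ∏ i : Fin n, (q ^ n - q ^ (i : ℕ)) :=
      (Nat.dvd_sub (dvd_pow_self q (by omega)) (dvd_pow_self q one_ne_zero)).trans (Finset.dvd_prod_of_mem _ (Finset.mem_univ (⟨1, h2⟩ : Fin n)))
    obtain ⟨m, hm⟩ := this
    exact h.om_pp (hF ▸ FiniteField.isPrimePow_card F) ((c1.coprime_dvd_left (Nat.gcd_dvd_right n _)).mul_left c1)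
      (m := m) (by rw [mul_assoc, E, hm])
  have k : ∀ q ∈ pps, ∀ N ∈ ords, ∀ n ∈ [2, 3, 4, 5], Nat.gcd n (q - 1) * ((q - 1) * N) ≠ ((List.range n).map fun i => q ^ n - q ^ i).prod := by
    decide +kernel
  refine k q hq _ h.2 n (by interval_cases n <;> decide) (E.trans ?_)
  rw [Fin.prod_univ_eq_prod_range (fun i => q ^ n - q ^ i)]
  rfl

/-- S0280 -/
theorem Bad.psu (h : Bad S) (h2 : 2 ≤ n) (h5 : n ≤ 5) (hF : Fintype.card F = q ^ 2) (e : S ≃* PSU n F q) : False := by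
  have E := Agent.S0280.result hF n h2
  rw [← Nat.card_congr e.toEquiv] at E
  have c1 : (q + 1).Coprime q := (om_cop rfl).symm
  have hq : q ∈ pps := by
    obtain ⟨m, hm⟩ := dvd_pow_self q (Nat.div_pos (Nat.mul_le_mul h2 (show 1 ≤ n - 1 by omega)) two_pos).ne'
    exact h.om_pp ((isPrimePow_pow_iff two_ne_zero).1 (hF ▸ FiniteField.isPrimePow_card F))
      ((c1.coprime_dvd_left (Nat.gcd_dvd_right n _)).mul_left c1) (by rw [mul_assoc, E, hm, mul_assoc])
  have k : ∀ q ∈ pps, ∀ N ∈ ords, ∀ n ∈ [2, 3, 4, 5], Nat.gcd n (q + 1) * ((q + 1) * N) ≠ q ^ (n * (n - 1) / 2) *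
      ((List.range n).map fun i => if i % 2 = 0 then q ^ (i + 1) + 1 else q ^ (i + 1) - 1).prod := by
    decide +kernel
  refine k q hq _ h.2 n (by interval_cases n <;> decide) (E.trans ?_)
  simp only [Nat.even_iff]
  rfl

/-- S0245, the centre has order 1 or 2 (see `TA.s4`) -/
theorem Bad.psp (h : Bad S) (e : S ≃* PSp 2 F) : False := by
  obtain ⟨q, hF⟩ : ∃ q, Fintype.card F = q := ⟨_, rfl⟩
  have E := Symp.card_psp_mul (l := Fin 2) (F := F)
  rw [Agent.S0245.result hF, hF] at E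
  have E' : Nat.gcd 2 (q - 1) * Nat.card S = q ^ 4 * ((q ^ 2 - 1) * (q ^ 4 - 1)) := by
    rw [Nat.card_congr e.toEquiv]
    simpa [Finset.prod_range_succ, PSp] using E
  have q1 : 1 < q := hF ▸ Fintype.one_lt_card
  have c1 : (q - 1).Coprime q := om_cop (by omega)
  have k : ∀ q ∈ pps, ∀ N ∈ ords, Nat.gcd 2 (q - 1) * N ≠ q ^ 4 * ((q ^ 2 - 1) * (q ^ 4 - 1)) := by decide +kernel
  exact k q (h.om_pp (hF ▸ FiniteField.isPrimePow_card F) (c1.coprime_dvd_left (Nat.gcd_dvd_right 2 _))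
    (m := q ^ 3 * ((q ^ 2 - 1) * (q ^ 4 - 1))) (by rw [E']; ring)) _ h.2 E'

/-- `card_alternatingGroup`, `interval_cases n` -/
theorem Bad.alt (h : Bad S) (hn : n ≤ 11) (e : S ≃* alternatingGroup (Fin n)) : False := by
  have E := Nat.card_congr e.toEquiv
  have m := h.2
  rcases Nat.lt_or_ge n 2 with c | c
  · have : Nat.card (alternatingGroup (Fin n)) ≤ 1 := by
      refine (Nat.card_le_card_of_injective _ Subtype.val_injective).trans ?_
      rw [Nat.card_perm, Nat.card_fin]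
      interval_cases n <;> decide
    have := Nat.le_of_dvd (ords_pos h.2) (eight_dvd h.2)
    omega
  have : Nontrivial (Fin n) := Fin.nontrivial_iff_two_le.2 c
  rw [E, Nat.card_eq_fintype_card, card_alternatingGroup, Fintype.card_fin] at m
  interval_cases n <;> revert m <;> decide +kernel

theorem Bad.g2 (h : Bad S) : ¬ IsG2 S := by
  rintro ⟨-, q, hq, -, E⟩
  have k : ∀ q ∈ pps, ∀ N ∈ ords, N ≠ q ^ 6 * (q ^ 6 - 1) * (q ^ 2 - 1) := by decide +kernel
  exact k q (h.om_pp hq (Nat.coprime_one_left q) (m := q ^ 5 * (q ^ 6 - 1) * (q ^ 2 - 1)) (by rw [E]; ring)) _ h.2 E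

theorem Bad.d4 (h : Bad S) : ¬ Is3D4 S := by
  rintro ⟨-, q, hq, E⟩
  have k : ∀ q ∈ pps, ∀ N ∈ ords, N ≠ q ^ 12 * (q ^ 8 + q ^ 4 + 1) * (q ^ 6 - 1) * (q ^ 2 - 1) := by decide +kernel
  exact k q (h.om_pp hq (Nat.coprime_one_left q) (m := q ^ 11 * (q ^ 8 + q ^ 4 + 1) * (q ^ 6 - 1) * (q ^ 2 - 1))
    (by rw [E]; ring)) _ h.2 E

theorem Bad.ree (h : Bad S) : ¬ IsRee S := by
  rintro ⟨-, m, -, E⟩
  have hq : IsPrimePow (3 ^ (2 * m + 1)) := Nat.prime_three.isPrimePow.pow (by omega)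
  generalize 3 ^ (2 * m + 1) = q at E hq
  have k : ∀ q ∈ pps, ∀ N ∈ ords, N ≠ q ^ 3 * (q ^ 3 + 1) * (q - 1) := by decide +kernel
  exact k q (h.om_pp hq (Nat.coprime_one_left q) (m := q ^ 2 * (q ^ 3 + 1) * (q - 1)) (by rw [E]; ring)) _ h.2 E

theorem Bad.sz (h : Bad S) : ¬ IsSuzuki S := by
  rintro ⟨-, m, -, E⟩
  have hq : IsPrimePow (2 ^ (2 * m + 1)) := Nat.prime_two.isPrimePow.pow (by omega)
  generalize 2 ^ (2 * m + 1) = q at E hq
  have k : ∀ q ∈ pps, ∀ N ∈ ords, N ≠ q ^ 2 * (q ^ 2 + 1) * (q - 1) := by decide +kernel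
  exact k q (h.om_pp hq (Nat.coprime_one_left q) (m := q * (q ^ 2 + 1) * (q - 1)) (by rw [E]; ring)) _ h.2 E

end Cfsg.Lib.SPL
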